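import Cfsg.Agent.H306.Rec.MTwentyThree
import Cfsg.Agent.H604.Sax.McLEl
import Cfsg.Agent.H604.Sax.NoNine
import Cfsg.Agent.S2064

/-!
# `M₂₄` is recognizable by spectrum (helper759), after helper306's `M₂₃`
-/

set_option autoImplicit false
set_option linter.unusedSectionVars false

namespace Cfsg.Agent.H759.Rec.MTwentyFour

open Subgroup Cfsg Cfsg.Agent.H58.Rec Cfsg.Agent.H455.Isolated Cfsg.Agent.OrdDiv Cfsg.Agent.H436 Cfsg.Agent.H306.Rec

universe u w

section

variable {M : Type w} [Group M] [Finite M] (hM : Spor.IsoM24 M)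

include hM

theorem iso11 : Isolated M 11 := H306.Rec.isolated_of_sc (by norm_num) (H537.Cop.m24_11 hM)

theorem iso23 : Isolated M 23 := H306.Rec.isolated_of_sc (by norm_num) (H537.Cop.m24_23 hM)

theorem good23 : Good M 23 := by
  have hc : Nat.card M = 244823040 := NotCT.Orders.m24 hM
  exact good_of_two (by norm_num) (by norm_num) (by rw [hc]; norm_num) (iso23 hM) (s := 11) (by norm_num) (by norm_num)
    (by rw [hc]; norm_num) (iso11 hM) (by norm_num)

theorem good11 : Good M 11 := by
  have hc : Nat.card M = 244823040 := NotCT.Orders.m24 hM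
  exact good_of_two (by norm_num) (by norm_num) (by rw [hc]; norm_num) (iso11 hM) (s := 23) (by norm_num) (by norm_num)
    (by rw [hc]; norm_num) (iso23 hM) (by norm_num)

theorem no_nine : ¬ HasOrd M 9 := by
  rintro ⟨g, hg⟩
  exact H604.Sax.NoNine.iso_m24 hM g hg

theorem ten : HasOrd M 10 := by
  rcases H94.PG.Sp.nr_m24' hM (r := 5) (by norm_num) (by norm_num) (by norm_num) with h1 | h1
  · norm_num at h1
  · obtain ⟨g, hg⟩ := H564.PSLn.exists_orderOf_mul h1
    exact ⟨g, hg⟩

/-- no element of order `11 p` -/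
theorem no_eleven {p : ℕ} (hp : p.Prime) : ¬ HasOrd M (11 * p) := by
  have hc : Nat.card M = 244823040 := NotCT.Orders.m24 hM
  by_cases h : p = 11
  · subst h
    rintro ⟨g, hg⟩
    have h1 := orderOf_dvd_natCard g
    rw [hg, hc] at h1
    norm_num at h1
  · exact (isolated_iff.1 (iso11 hM)) p hp h

/-- **`M₂₄` is recognizable by spectrum.** -/
theorem row (hN : NameHyp.{u}) {G : Type u} [Group G] [Finite G] (h : Same G M) : Nonempty (G ≃* M) := by
  have hc : Nat.card M = 244823040 := NotCT.Orders.m24 hM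
  have hsol : ¬ Group.IsSolvable G :=
    not_solvable_of_same h (r := 11) (s := 23) (t := 2) (by norm_num) (by norm_num) Nat.prime_two (by norm_num)
      (by norm_num) (by norm_num) (by rw [hc]; norm_num) (by rw [hc]; norm_num) (by rw [hc]; norm_num)
      ((isolated_iff.1 (iso11 hM)) 23 (by norm_num) (by norm_num))
      ((isolated_iff.1 (iso11 hM)) 2 (by norm_num) (by norm_num))
      ((isolated_iff.1 (iso23 hM)) 2 (by norm_num) (by norm_num))
  obtain ⟨X, _, _, π, S, hR⟩ := exists_red hsol ((dvd_of_same h Nat.prime_two).2 (by rw [hc]; norm_num))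
    ((good23 hM).of_same h)
  have R23 := hR 23 ((good23 hM).of_same h)
  have R11 := hR 11 ((good11 hM).of_same h)
  have hSn := R23.normal
  have hSs : IsSimpleGroup S := R23.simple
  have hsub : Sub S M := ⟨fun n hn => (h n).1 (R23.hasOrd' hn), fun r hr => (hR r (hr.of_same h)).dvd⟩
  obtain ⟨g, hg, hgl⟩ := name_mem hN R23.nonab hsub (ps := [2, 3, 5, 7, 11, 23]) (rs := [11, 23]) (B := 23) (N := 29) hc
    (by norm_num) (by decide) (by norm_num) (by decide)
    (fun r hr hd => mem_of_dvd_pow (k := 10) (by decide) (by decide) hr hd) (by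
      intro r hr
      simp only [List.mem_cons, List.not_mem_nil, or_false] at hr
      rcases hr with rfl | rfl
      · exact R11.dvd
      · exact R23.dvd)
  rw [MTwentyThree.lst_eq] at hgl
  have hiS : Isolated S 23 := hsub.isolated (iso23 hM)
  -- the kernel is trivial as soon as `23 : 11 ≤ S`
  have hker : HasFrob S 23 11 → ∀ p : ℕ, p.Prime → ¬ p ∣ Nat.card π.ker := by
    intro hF p hp
    by_cases h23 : p = 23
    · rw [h23]; exact R23.not_dvd
    · exact R23.kill' hp (by norm_num) (Ne.symm h23) hF fun h4 => no_eleven hM hp ((h _).1 h4)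
  have hnine : HasOrd S 9 → False := fun h1 => no_nine hM (hsub.ord _ h1)
  simp only [List.mem_cons, List.not_mem_nil, or_false] at hgl
  rcases hgl with rfl | rfl | rfl | rfl | rfl
  · exfalso
    have h1 : Spor.IsoM23 S := hg.real
    have hF : HasFrob S 23 11 := hasFrob_of_isolated (by norm_num) (NotCT.Orders.m23 h1) hiS (by norm_num) (by norm_num)
      (by norm_num) (by decide +kernel)
    obtain ⟨e⟩ := h1
    obtain ⟨f⟩ := finish R23 (fun p hp _ => hker hF p hp) e (Or.inl S2063.result)
    have : Finite Spor.M23 := Finite.of_equiv S e.toEquiv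
    exact MTwentyThree.no_ten (M := Spor.M23) ⟨MulEquiv.refl _⟩ (((h 10).2 (ten hM)).congr f)
  · have h1 : Spor.IsoM24 S := hg.real
    have hF : HasFrob S 23 11 := hasFrob_of_isolated (by norm_num) (NotCT.Orders.m24 h1) hiS (by norm_num) (by norm_num)
      (by norm_num) (by decide +kernel)
    obtain ⟨e⟩ := h1
    obtain ⟨f⟩ := id hM
    refine finish R23 (fun p hp _ => hker hF p hp) (e.trans f.symm) (Or.inl ?_)
    rw [H548.Crit.card_out_congr f]
    exact S2064.result
  · exfalso
    obtain ⟨e⟩ : Spor.IsoCo2 S := hg.real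
    obtain ⟨x, hx⟩ := H604.Sax.McLEl.exists_nine_co2
    exact hnine ⟨e.symm x, by rw [e.symm.orderOf_eq, hx]⟩
  · exfalso
    obtain ⟨e⟩ : Spor.IsoCo3 S := hg.real
    obtain ⟨x, hx⟩ := H604.Sax.McLEl.exists_nine_co3
    exact hnine ⟨e.symm x, by rw [e.symm.orderOf_eq, hx]⟩
  · exfalso
    have hcS : Nat.card S = 6072 := by
      rw [hg.ord]; decide +kernel
    have hF : HasFrob S 23 11 := hasFrob_of_isolated (by norm_num) hcS hiS (by norm_num) (by norm_num)
      (by norm_num) (by decide +kernel)
    exact R23.absurd_of hcS (r := 5) (by norm_num) ((dvd_of_same h (by norm_num)).2 (by rw [hc]; norm_num))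
      (hker hF 5 (by norm_num)) (by decide +kernel)

end

/-- **`M₂₄` is recognizable by spectrum.** -/
theorem rec_m24 (hN : NameHyp.{u}) {G : Type u} [Group G] [Finite G] {M : Type w} [Group M] [Finite M]
    (hM : Spor.IsoM24 M) (h : Same G M) : Nonempty (G ≃* M) := row hM hN h

end Cfsg.Agent.H759.Rec.MTwentyFour
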